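import Cfsg.Agent.H65.Disp.Rgd

/-!
# S3831, exceptional rows, task EQ2 (helper358)

* `length_mul_of_comm` : `ℓ(u v) = ℓ(u) + ℓ(v)` for `u ∈ W_J`, `v ∈ W_K`, `J`, `K` orthogonal;
* `EQ2` : the displacement of an automorphism of order three has only components of type `A₁`, `A₂`.
-/

set_option autoImplicit false
set_option linter.unusedSectionVars false

namespace Cfsg.Agent.H358.SNX

open CoxeterSystem Cfsg.Agent.ChevalleyStructure.CoxeterGeom Cfsg.Agent.Tits.Roots Cfsg.Agent.Tits.Core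
  Cfsg.Agent.Tits.RootComb Cfsg.Agent.Tits.Exchange Cfsg.Agent.Nodes.Reps Cfsg.Agent.Nodes.BNOf
  Cfsg.Agent.Nodes.StabComb Cfsg.Agent.Nodes.Bruhat Cfsg.Agent.Nodes.OppDec Cfsg.Agent.Nodes.LeviDec
  Cfsg.Agent.Nodes.NormalForm Cfsg.Agent.KFacts.RgdOpp Cfsg.Agent.KFacts.RgdAut Cfsg.Agent.KFacts.RgdDiag
  Cfsg.Agent.KFacts.RgdRigid Cfsg.Agent.CpAut.RgdFix
open Cfsg.Agent.H65.Disp.Rgd

section Cox

variable {I W : Type*} [Fintype I] [DecidableEq I] [Group W] {M : CoxeterMatrix I} {cs : CoxeterSystem M W}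
  {A : I → I → ℤ}

theorem commute_simple {i j : I} (hij : M i j = 2) : Commute (cs.simple i) (cs.simple j) := by
  have h1 := cs.simple_mul_simple_pow i j
  rw [hij, pow_two] at h1
  have h2 := eq_inv_of_mul_eq_one_left h1
  rw [mul_inv_rev, cs.inv_simple, cs.inv_simple] at h2
  exact h2

theorem commute_WJ {J K : Set I} (hc : ∀ i ∈ J, ∀ j ∈ K, M i j = 2) {u v : W} (hu : u ∈ WJ cs J) (hv : v ∈ WJ cs K) :
    Commute u v := by
  have h1 : ∀ i ∈ J, ∀ v ∈ WJ cs K, Commute (cs.simple i) v := by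
    intro i hi v hv
    unfold WJ at hv
    induction hv using Subgroup.closure_induction with
    | mem x hx =>
      obtain ⟨j, hj, rfl⟩ := hx
      exact commute_simple (hc i hi j hj)
    | one => exact Commute.one_right _
    | mul x y _ _ hx hy => exact hx.mul_right hy
    | inv x _ hx => exact hx.inv_right
  unfold WJ at hu
  induction hu using Subgroup.closure_induction with
  | mem x hx =>
    obtain ⟨i, hi, rfl⟩ := hx
    exact h1 i hi v hv
  | one => exact Commute.one_left _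
  | mul x y _ _ hx hy => exact hx.mul_left hy
  | inv x _ hx => exact hx.inv_left

theorem disj {J K : Set I} (hc : ∀ i ∈ J, ∀ j ∈ K, M i j = 2) {i : I} (hi : i ∈ J) : i ∉ K := by
  intro h1
  have h2 := hc i hi i h1
  rw [M.diagonal] at h2
  omega

/-- **lengths** -/
theorem length_mul_of_comm (h : IsCartan M A) {J K : Set I} (hc : ∀ i ∈ J, ∀ j ∈ K, M i j = 2) {u v : W}
    (hu : u ∈ WJ cs J) (hv : v ∈ WJ cs K) : cs.length (u * v) = cs.length u + cs.length v := by
  obtain ⟨ω, hω, hred, rfl⟩ := exists_reduced_of_mem_WJ cs hu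
  clear hu
  induction ω with
  | nil => rw [wordProd_nil, one_mul, cs.length_one, zero_add]
  | cons i ω ih =>
    have hω' : ∀ j ∈ ω, j ∈ J := fun j hj => hω j (by simp [hj])
    have hred' : cs.IsReduced ω := by
      have := hred.drop 1
      simpa using this
    have ih' := ih hω' hred'
    have hi : i ∈ J := hω i (by simp)
    have hu' : cs.wordProd ω ∈ WJ cs J := wordProd_mem_WJ cs hω'
    have h1 : cs.length (cs.simple i * cs.wordProd ω) = cs.length (cs.wordProd ω) + 1 := by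
      rw [← wordProd_cons, hred, hred', List.length_cons]
    -- the root
    have h2 : 0 ≤ rep cs h (cs.wordProd ω)⁻¹ (sr i) := by
      refine (lt_iff' cs h _ i).1 ?_
      rw [cs.length_inv, ← cs.length_inv ((cs.wordProd ω)⁻¹ * cs.simple i), mul_inv_rev, inv_inv, cs.inv_simple, h1]
      omega
    set x := rep cs h (cs.wordProd ω)⁻¹ (sr i) with hx
    have hxK : ∀ k, k ∉ J → x k = 0 := by
      intro k hk
      rw [hx, Cfsg.Agent.Tits.RootComb.rep_apply_of_mem cs h (inv_mem hu') (sr i) hk]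
      exact sr_ne (fun e => hk (e ▸ hi))
    have hxr : IsRoot cs h x := (isRoot_sr cs h i).act _
    obtain ⟨k, hk⟩ : ∃ k, x k ≠ 0 := by
      by_contra hcon
      push Not at hcon
      exact hxr.ne_zero (funext hcon)
    have hkJ : k ∈ J := by
      by_contra h3
      exact hk (hxK k h3)
    have h3 : 0 ≤ rep cs h v⁻¹ x := by
      rcases (hxr.act v⁻¹).pos_or_neg with h4 | h4
      · exact h4
      · exfalso
        have h5 := h4 k
        rw [Cfsg.Agent.Tits.RootComb.rep_apply_of_mem cs h (inv_mem hv) x (disj hc hkJ)] at h5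
        exact hk (le_antisymm h5 (h2 k))
    have h4 : cs.length (cs.simple i * (cs.wordProd ω * v)) = cs.length (cs.wordProd ω * v) + 1 := by
      rw [hx, ← rep_mul_apply, ← mul_inv_rev] at h3
      have h5 := (lt_iff' cs h _ i).2 h3
      rw [cs.length_inv, ← cs.length_inv ((cs.wordProd ω * v)⁻¹ * cs.simple i), mul_inv_rev, inv_inv,
        cs.inv_simple] at h5
      rcases cs.length_simple_mul (cs.wordProd ω * v) i with h6 | h6
      · exact h6
      · omega
    rw [wordProd_cons, mul_assoc, h4, h1, ih']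
    omega

end Cox

variable {I W : Type*} [Fintype I] [DecidableEq I] [Group W] {Y : Type} [Group Y] {M : CoxeterMatrix I}
  {cs : CoxeterSystem M W} {A : I → I → ℤ} {h : IsCartan M A} {p : ℕ} {T : Subgroup Y} {n : I → Y}
  {X : (I → ℤ) → Subgroup Y} (R : RGD cs h p T n X)

include R

/-- **EQ2** the displacement has only components of type `A₁`, `A₂` -/
theorem EQ2 [Finite W] [Finite Y] [Fact p.Prime] (hG : GG cs h T X = ⊤) {β : MulAut Y}
    (hU : Fix β (RGD.Sup X (RGD.Pos cs h))) (D : Diag T X β 1) {z : Y} (hx : (MulAut.conj z * β) ^ 3 = 1)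
    {ω₁ ω₂ : List I} (hz : Cell R.nsys cs h X (cs.wordProd (ω₁ ++ ω₂)) z) (hc : ∀ i ∈ ω₁, ∀ j ∈ ω₂, M i j = 2)
    (h2 : cs.length (cs.wordProd ω₁ * cs.wordProd ω₁) = cs.length (cs.wordProd ω₁) + cs.length (cs.wordProd ω₁))
    (h3 : cs.wordProd ω₁ * cs.wordProd ω₁ * cs.wordProd ω₁ ≠ 1) : False := by
  have hB := fix_B R hG hU
  have hq := mem_B_of_cube R hG hU hx
  set J : Set I := {i | i ∈ ω₁} with hJ
  set K : Set I := {i | i ∈ ω₂} with hK
  have hc' : ∀ i ∈ J, ∀ j ∈ K, M i j = 2 := hc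
  have hc'' : ∀ i ∈ K, ∀ j ∈ J, M i j = 2 := fun i hi j hj => by rw [M.symmetric]; exact hc j hj i hi
  set w₁ := cs.wordProd ω₁ with hw₁
  set w₂ := cs.wordProd ω₂ with hw₂
  have hw₁J : w₁ ∈ WJ cs J := wordProd_mem_WJ cs fun i hi => hi
  have hw₂K : w₂ ∈ WJ cs K := wordProd_mem_WJ cs fun i hi => hi
  rw [wordProd_append] at hz
  -- the second factor of `z`
  have hsplit : ∀ {u v : W} {g : Y}, Cell R.nsys cs h X (u * v) g → ∃ a b, Cell R.nsys cs h X u a ∧
      Cell R.nsys cs h X v b ∧ g = a * b := by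
    rintro u v g ⟨b₁, hb₁, k, hk, b₂, hb₂, rfl⟩
    obtain ⟨k₁, hk₁⟩ := exists_rp cs R.nsys u
    have h4 := hk₁.inv.mul hk
    rw [inv_mul_cancel_left] at h4
    exact ⟨b₁ * k₁, k₁⁻¹ * k * b₂, (cell_of_rp hk₁).mul_left hb₁, (cell_of_rp h4).mul_right hb₂, by group⟩
  have hz1 := cell_map R D hB hz
  have hz2 := cell_map R D hB hz1
  obtain ⟨a, y₁, ha, hy₁, hz'⟩ := hsplit hz
  rw [(commute_WJ hc' hw₁J hw₂K).eq] at hz1
  obtain ⟨y₂, c, hy₂, hc0, hz1'⟩ := hsplit hz1
  have hy : y₁ * y₂ ∈ PJ cs h T X K :=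
    mul_mem ((cell_mem_PJ_iff R hy₁).2 hw₂K) ((cell_mem_PJ_iff R hy₂).2 hw₂K)
  obtain ⟨v, hv, hvc⟩ := (mem_PJ_iff_cell R).1 hy
  have e1 : Commute w₁ v := commute_WJ hc' hw₁J hv
  have l1 : cs.length (w₁ * v) = cs.length w₁ + cs.length v := length_mul_of_comm h hc' hw₁J hv
  have h5 := Cell.mul_of_length R l1 ha hvc
  have l2 : cs.length (w₁ * v * w₁) = cs.length (w₁ * v) + cs.length w₁ := by
    rw [mul_assoc, ← e1.eq, ← mul_assoc, length_mul_of_comm h hc' (mul_mem hw₁J hw₁J) hv, l1, h2]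
    omega
  have h6 := Cell.mul_of_length R l2 h5 hc0
  have e2 : a * (y₁ * y₂) * c = z * β z := by rw [hz1', hz']; group
  rw [e2] at h6
  have h7 := hz2.inv.mul_left hq
  rw [mul_inv_cancel_right] at h7
  have h8 := Cell.unique R h6 h7
  -- `w₁ ^ 3` lies in `W_K`
  have h9 : w₁ * w₁ * w₁ = v⁻¹ * w₂⁻¹ := by
    have h10 : w₁ * v * w₁ * (w₁ * w₂) = 1 := by rw [h8, inv_mul_cancel]
    have h11 : w₁ * v * w₁ * (w₁ * w₂) = v * (w₁ * w₁ * w₁) * w₂ := by
      rw [e1.eq]
      simp only [mul_assoc]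
    rw [h11] at h10
    have h12 : v * (w₁ * w₁ * w₁) = w₂⁻¹ := eq_inv_of_mul_eq_one_left h10
    rw [← h12, inv_mul_cancel_left]
  have h10 : w₁ * w₁ * w₁ ∈ WJ cs K := by rw [h9]; exact mul_mem (inv_mem hv) (inv_mem hw₂K)
  have h11 := Cfsg.Agent.Tits.Ext.WJ_inter Cfsg.Agent.Tits.Ext.simple_injective
    (mul_mem (mul_mem hw₁J hw₁J) hw₁J) h10
  have h12 : J ∩ K = ∅ := by
    ext i
    simp only [Set.mem_inter_iff, Set.mem_empty_iff_false, iff_false, not_and]
    exact fun hi => disj hc' hi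
  rw [h12] at h11
  apply h3
  unfold WJ at h11
  rwa [Set.image_empty, Subgroup.closure_empty, Subgroup.mem_bot] at h11

end Cfsg.Agent.H358.SNX
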